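import Mathlib

/-!
A vector avoiding the fixed spaces of a class of elements of a normal `p`-subgroup: the
imprimitive step.
-/

set_option autoImplicit false
set_option linter.style.haveILetI false

namespace Cfsg.Agent.Block.AvoidFix

open Subgroup

universe u v

/-- Some vector is moved by every conjugate of `x`. -/
def Avoid {M : Type u} [Group M] {V : Type v} [AddCommGroup V] (ρ : M →* AddMonoid.End V) (x : M) :
    Prop :=
  ∃ w : V, ∀ g : M, ρ (g * x * g⁻¹) w ≠ w

/-- The statement to be proved by induction on the size of the module. -/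
def Goal (p n : ℕ) : Prop :=
  ∀ (M : Type u) [Group M] [Finite M] (V : Type v) [AddCommGroup V] [Finite V],
    Nat.card V = n → (Nat.card V).Coprime p → ∀ (ρ : M →* AddMonoid.End V) (P : Subgroup M),
      P.Normal → IsPGroup p P → ∀ x ∈ P, ρ x ≠ 1 → Avoid ρ x

section General

variable {M : Type u} [Group M] {V : Type v} [AddCommGroup V]

theorem act_mul (ρ : M →* AddMonoid.End V) (a b : M) (v : V) : ρ (a * b) v = ρ a (ρ b v) := by
  rw [map_mul]; rfl

theorem act_one (ρ : M →* AddMonoid.End V) (v : V) : ρ 1 v = v := by rw [map_one]; rfl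

theorem act_inv_cancel (ρ : M →* AddMonoid.End V) (a : M) (v : V) : ρ a⁻¹ (ρ a v) = v := by
  rw [← act_mul, inv_mul_cancel, act_one]

theorem exists_moved {ρ : M →* AddMonoid.End V} {x : M} (h : ρ x ≠ 1) : ∃ v : V, ρ x v ≠ v := by
  by_contra hc
  push Not at hc
  exact h (AddMonoidHom.ext hc)

/-- Multiples by numbers whose primes are prime to the size of the module are injective. -/
theorem eq_zero_of_nsmul [Finite V] {n : ℕ} (hn : (Nat.card V).Coprime n) {v : V} (h : n • v = 0) :
    v = 0 := by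
  have h1 : addOrderOf v ∣ n := addOrderOf_dvd_of_nsmul_eq_zero h
  have h2 : addOrderOf v ∣ Nat.card V := addOrderOf_dvd_natCard v
  exact AddMonoid.addOrderOf_eq_one_iff.mp (Nat.eq_one_of_dvd_coprimes hn h2 h1)

theorem coprime_card [Finite V] {p : ℕ} (hV : (Nat.card V).Coprime p) [hp : Fact p.Prime]
    {K : Subgroup M} (hK : IsPGroup p K) [Finite M] : (Nat.card V).Coprime (Nat.card K) := by
  obtain ⟨n, hn⟩ := hK.exists_card_eq
  rw [hn]
  exact hV.pow_right n

/-- The representation on an invariant subgroup. -/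
def resEnd (ρ : M →* AddMonoid.End V) (H : Subgroup M) (U : AddSubgroup V)
    (hU : ∀ h ∈ H, ∀ v ∈ U, ρ h v ∈ U) : H →* AddMonoid.End U where
  toFun h := AddMonoidHom.mk' (fun v => ⟨ρ h v, hU h h.2 v v.2⟩)
    (fun a b => Subtype.ext (map_add (ρ (h : M)) (a : V) b))
  map_one' := AddMonoidHom.ext fun v => Subtype.ext (act_one ρ _)
  map_mul' a b := AddMonoidHom.ext fun v => Subtype.ext (act_mul ρ _ _ _)

theorem resEnd_apply (ρ : M →* AddMonoid.End V) (H : Subgroup M) (U : AddSubgroup V)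
    (hU : ∀ h ∈ H, ∀ v ∈ U, ρ h v ∈ U) (h : H) (v : U) :
    ((resEnd ρ H U hU h v : U) : V) = ρ h v := rfl

end General

/-- In a primitive action, an element of a normal `p`-subgroup fixing a point fixes all. -/
theorem fix_all {M : Type u} [Group M] [Finite M] {p : ℕ} [Fact p.Prime] {Mx : Subgroup M}
    (hMx : IsCoatom Mx) {P : Subgroup M} [P.Normal] (hP : IsPGroup p P) (hPC : ¬ P ≤ Mx.normalCore)
    {z : M} (hz : z ∈ P) {g : M} (hzg : g⁻¹ * z * g ∈ Mx) (h : M) : h⁻¹ * z * h ∈ Mx := by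
  set C := Mx.normalCore with hC
  set f := QuotientGroup.mk' C with hf
  have hfs : Function.Surjective f := QuotientGroup.mk'_surjective C
  haveI : (P.map f).Normal := Subgroup.Normal.map inferInstance f hfs
  have hPb : IsPGroup p (P.map f) := hP.map f
  haveI hnt : Nontrivial ↥(P.map f) := by
    refine (Subgroup.nontrivial_iff_ne_bot _).2 fun e => hPC fun a ha => ?_
    have : f a ∈ P.map f := Subgroup.mem_map_of_mem f ha
    rw [e, Subgroup.mem_bot] at this
    exact (QuotientGroup.eq_one_iff a).1 this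
  haveI : Nontrivial (center ↥(P.map f)) := hPb.center_nontrivial
  set Z := (center ↥(P.map f)).map (P.map f).subtype with hZ
  haveI : Z.Normal := inferInstance
  set T := Z.comap f with hT
  haveI : T.Normal := Subgroup.Normal.comap inferInstance f
  have hTM : ¬ T ≤ Mx := by
    intro hle
    have h1 : T ≤ C := Subgroup.normal_le_normalCore.2 hle
    obtain ⟨⟨c, hc⟩, hc1⟩ := exists_ne (1 : center ↥(P.map f))
    obtain ⟨a, ha⟩ := hfs (c : M ⧸ C)
    have haT : a ∈ T := by
      show f a ∈ Z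
      rw [ha]; exact ⟨c, hc, rfl⟩
    exact hc1 (Subtype.ext (Subtype.ext (ha ▸ (QuotientGroup.eq_one_iff a).2 (h1 haT))))
  have htop : T ⊔ Mx = ⊤ := hMx.2 _ (lt_of_le_not_ge le_sup_right fun hle => hTM (le_sup_left.trans hle))
  have hm : g⁻¹ * h ∈ ((T ⊔ Mx : Subgroup M) : Set M) := by rw [htop]; trivial
  rw [Subgroup.normal_mul] at hm
  obtain ⟨t, ht, m, hm, htm⟩ := hm
  have htm : t * m = g⁻¹ * h := htm
  set w := g⁻¹ * z * g with hw
  have hwP : w ∈ P := by
    have := Subgroup.Normal.conj_mem (inferInstanceAs P.Normal) z hz g⁻¹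
    rwa [inv_inv] at this
  have hcomm : f (w⁻¹ * (t⁻¹ * w * t)) = 1 := by
    obtain ⟨c, hc, hct⟩ : f t ∈ Z := ht
    have e := Subgroup.mem_center_iff.mp hc ⟨f w, Subgroup.mem_map_of_mem f hwP⟩
    have e' : f w * f t = f t * f w := by
      rw [← hct]; exact congrArg Subtype.val e
    rw [map_mul, map_mul, map_mul, map_inv, map_inv, mul_assoc (f t)⁻¹, e', inv_mul_cancel_left,
      inv_mul_cancel]
  have h2 : w⁻¹ * (t⁻¹ * w * t) ∈ Mx :=
    Subgroup.normalCore_le Mx ((QuotientGroup.eq_one_iff _).1 hcomm)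
  have h3 : t⁻¹ * w * t ∈ Mx := by simpa using mul_mem hzg h2
  have h4 : h = g * (t * m) := by rw [htm]; group
  rw [h4, show (g * (t * m))⁻¹ * z * (g * (t * m)) = m⁻¹ * (t⁻¹ * w * t) * m by rw [hw]; group]
  exact mul_mem (mul_mem (inv_mem hm) h3) hm

variable {M : Type u} [Group M] [Finite M] {V : Type v} [AddCommGroup V] [Finite V]

/-- A system of imprimitivity over the cosets of a maximal subgroup reduces the problem. -/
theorem block_step {p : ℕ} [hp : Fact p.Prime] (hV : (Nat.card V).Coprime p)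
    (ih : ∀ m < Nat.card V, Goal.{u, v} p m) (ρ : M →* AddMonoid.End V) {P : Subgroup M} [P.Normal]
    (hP : IsPGroup p P) {x : M} (hx : x ∈ P) (hx1 : ρ x ≠ 1) {Mx : Subgroup M} (hMx : IsCoatom Mx)
    (U : M ⧸ Mx → AddSubgroup V) (hne : ∀ c, U c ≠ ⊥)
    (heq : ∀ (g : M) (c : M ⧸ Mx), ∀ v ∈ U c, ρ g v ∈ U (g • c))
    (hind : ∀ f : M ⧸ Mx → V, (∀ c, f c ∈ U c) → (∑ᶠ c, f c) = 0 → ∀ c, f c = 0)
    (hspan : ⨆ c, U c = ⊤) : Avoid ρ x := by
  classical
  haveI := Fintype.ofFinite (M ⧸ Mx)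
  simp only [finsum_eq_sum_of_fintype] at hind
  -- the components of a fixed vector
  have hcomp : ∀ (y : M) (n : M ⧸ Mx → V), (∀ c, n c ∈ U c) → ρ y (∑ c, n c) = ∑ c, n c →
      ∀ c, ρ y (n c) = n (y • c) := by
    intro y n hn hfix c
    have h := hind (fun d => ρ y (n (y⁻¹ • d)) - n d)
      (fun d => sub_mem (by simpa using heq y (y⁻¹ • d) _ (hn _)) (hn d)) ?_ (y • c)
    · simpa [sub_eq_zero] using h
    · rw [Finset.sum_sub_distrib, sub_eq_zero]
      refine (Equiv.sum_comp (MulAction.toPerm y⁻¹) (fun c => ρ y (n c))).trans ?_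
      rw [← map_sum, hfix]
  choose nz hnzU hnz0 using fun c => (AddSubgroup.bot_or_exists_ne_zero (U c)).resolve_left (hne c)
  by_cases hPC : ∀ c : M ⧸ Mx, x • c = c
  swap
  · push Not at hPC
    obtain ⟨c₁, hc₁⟩ := hPC
    have hmove : ∀ (g : M) (c : M ⧸ Mx), (g * x * g⁻¹) • c ≠ c := by
      intro g c hc
      apply hc₁
      obtain ⟨a, rfl⟩ := QuotientGroup.mk_surjective c
      obtain ⟨b, rfl⟩ := QuotientGroup.mk_surjective c₁
      have hPn : ¬ P ≤ Mx.normalCore := fun hle => hc₁ (by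
        rw [MulAction.Quotient.smul_mk, eq_comm, QuotientGroup.eq, smul_eq_mul, ← mul_assoc]
        simpa using (hle hx : x ∈ Mx.normalCore) b⁻¹)
      rw [MulAction.Quotient.smul_mk, eq_comm, QuotientGroup.eq, smul_eq_mul] at hc
      have hall := fix_all hMx hP hPn (z := g * x * g⁻¹)
        (Subgroup.Normal.conj_mem inferInstance x hx g) (g := a) (by rwa [mul_assoc]) (g * b)
      rw [MulAction.Quotient.smul_mk, eq_comm, QuotientGroup.eq, smul_eq_mul]
      convert hall using 1; group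
    set n : M ⧸ Mx → V := fun c => if c = c₁ then 0 else nz c with hn
    refine ⟨∑ c, n c, fun g hfix => ?_⟩
    have h := hcomp _ n (fun c => by simp only [hn]; split_ifs; exacts [zero_mem _, hnzU c]) hfix c₁
    simp only [hn, if_neg (hmove g c₁), if_pos rfl, map_zero] at h
    exact hnz0 _ h.symm
  · -- every conjugate fixes every block
    have hall : ∀ (g : M) (c : M ⧸ Mx), (g * x * g⁻¹) • c = c := fun g c => by
      rw [mul_smul, mul_smul, hPC, smul_inv_smul]
    obtain ⟨c₀, hc₀⟩ : ∃ c, ∃ v ∈ U c, ρ x v ≠ v := by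
      by_contra hcon
      push Not at hcon
      obtain ⟨v, hv⟩ := exists_moved hx1
      have hle : (⨆ c, U c) ≤ AddMonoidHom.eqLocus (ρ x) (AddMonoidHom.id V) :=
        iSup_le fun c w hw => hcon c w hw
      exact hv (hle (hspan ▸ AddSubgroup.mem_top v))
    obtain ⟨v₀, hv₀U, hv₀⟩ := hc₀
    set H := MulAction.stabilizer M c₀ with hH
    have hU : ∀ h ∈ H, ∀ v ∈ U c₀, ρ h v ∈ U c₀ := fun h hh v hv => by
      have := heq h c₀ v hv
      rwa [MulAction.mem_stabilizer_iff.1 hh] at this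
    obtain ⟨c', hc'⟩ : ∃ c' : M ⧸ Mx, c' ≠ c₀ := by
      obtain ⟨g, hg⟩ := SetLike.exists_not_mem_of_ne_top Mx hMx.1
      by_contra hcon
      push Not at hcon
      exact hg (by simpa [QuotientGroup.eq] using (hcon (QuotientGroup.mk 1)).trans (hcon (QuotientGroup.mk g)).symm)
    have hlt : Nat.card (U c₀) < Nat.card V := by
      refine lt_of_le_of_ne (Nat.card_le_card_of_injective _ Subtype.val_injective) fun he => hnz0 c' ?_
      have htop : U c₀ = ⊤ := AddSubgroup.eq_top_of_card_eq _ he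
      have h := hind (fun d => if d = c' then nz c' else if d = c₀ then -nz c' else 0) (fun d => by
        split_ifs with h1 h2
        · exact h1 ▸ hnzU c'
        · exact h2 ▸ htop ▸ AddSubgroup.mem_top _
        · exact zero_mem _) (by
        rw [Finset.sum_eq_add_of_mem c' c₀ (Finset.mem_univ _) (Finset.mem_univ _) hc']
        · simp [hc'.symm]
        · intro d _ hd
          simp [hd.1, hd.2]) c'
      simpa using h
    have hxH : x ∈ H := hPC c₀
    have hP' : IsPGroup p (P.subgroupOf H) :=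
      hP.comap_of_injective H.subtype H.subtype_injective
    obtain ⟨w, hw⟩ := ih (Nat.card (U c₀)) hlt H (U c₀) rfl
      (hV.coprime_dvd_left (AddSubgroup.card_addSubgroup_dvd_card _)) (resEnd ρ H (U c₀) hU) (P.subgroupOf H)
      inferInstance hP' ⟨x, hxH⟩ hx (fun e => hv₀ (congrArg Subtype.val (DFunLike.congr_fun e (⟨v₀, hv₀U⟩ : U c₀)) :))
    choose m hm using fun c : M ⧸ Mx => MulAction.exists_smul_eq M c₀ c
    refine ⟨∑ c, ρ (m c) w, fun g hfix => ?_⟩
    have hk : (m (g • c₀))⁻¹ * g ∈ H := by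
      rw [MulAction.mem_stabilizer_iff, mul_smul, inv_smul_eq_iff, hm]
    have h := hcomp _ (fun c => ρ (m c) w) (fun c => by
      have := heq (m c) c₀ w w.2
      rwa [hm] at this) hfix (g • c₀)
    rw [hall g] at h
    refine hw ⟨_, hk⟩ (Subtype.ext ?_)
    rw [resEnd_apply]
    conv_rhs => rw [← act_inv_cancel ρ (m (g • c₀)) (w : V), ← h]
    rw [← act_mul, ← act_mul]
    congr 2
    show (m (g • c₀))⁻¹ * g * x * ((m (g • c₀))⁻¹ * g)⁻¹ = _
    group

end Cfsg.Agent.Block.AvoidFix
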