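import Mathlib
import Cfsg.Agent.Lib.Block.AvoidFix.Blocks
import Cfsg.Agent.Lib.Invol.RankOne

/-!
A non-cyclic abelian normal subgroup gives a system of imprimitivity.
-/

set_option autoImplicit false
set_option linter.style.haveILetI false

namespace Cfsg.Agent.Block.AvoidFix

open Subgroup

universe u v

variable {M : Type u} [Group M] {V : Type v} [AddCommGroup V]

/-- The common fixed points of a subgroup. -/
def fix (ρ : M →* AddMonoid.End V) (K : Subgroup M) : AddSubgroup V where
  carrier := {v | ∀ k ∈ K, ρ k v = v}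
  zero_mem' := fun k _ => map_zero (ρ k)
  add_mem' := fun {a b} ha hb k hk => by rw [map_add, ha k hk, hb k hk]
  neg_mem' := fun {a} ha k hk => by rw [map_neg, ha k hk]

theorem mem_fix {ρ : M →* AddMonoid.End V} {K : Subgroup M} {v : V} :
    v ∈ fix ρ K ↔ ∀ k ∈ K, ρ k v = v := Iff.rfl

theorem fix_conj {ρ : M →* AddMonoid.End V} {K : Subgroup M} {v : V} (hv : v ∈ fix ρ K) (h : M) :
    ρ h v ∈ fix ρ (K.map (MulAut.conj h).toMonoidHom) := by
  rintro _ ⟨k, hk, rfl⟩
  rw [← act_mul, MulEquiv.coe_toMonoidHom, MulAut.conj_apply, inv_mul_cancel_right, act_mul, hv k hk]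

theorem map_conj_mul (K : Subgroup M) (a b : M) :
    (K.map (MulAut.conj b).toMonoidHom).map (MulAut.conj a).toMonoidHom =
      K.map (MulAut.conj (a * b)).toMonoidHom := by
  rw [Subgroup.map_map]
  congr 1
  ext k
  simp [mul_assoc]

theorem map_conj_one (K : Subgroup M) : K.map (MulAut.conj (1 : M)).toMonoidHom = K := by
  ext k; simp

variable [Finite M]

/-- The sum over a subgroup. -/
noncomputable def avg (ρ : M →* AddMonoid.End V) (K : Subgroup M) : V →+ V :=
  AddMonoidHom.mk' (fun v => ∑ᶠ k : K, ρ (k : M) v) fun a b => by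
    haveI := Fintype.ofFinite K
    simp only [finsum_eq_sum_of_fintype, map_add, Finset.sum_add_distrib]

theorem avg_apply (ρ : M →* AddMonoid.End V) (K : Subgroup M) [Fintype K] (v : V) :
    avg ρ K v = ∑ k : K, ρ (k : M) v :=
  finsum_eq_sum_of_fintype _

theorem avg_mem (ρ : M →* AddMonoid.End V) (K : Subgroup M) (v : V) : avg ρ K v ∈ fix ρ K := by
  haveI := Fintype.ofFinite K
  intro a ha
  rw [avg_apply, map_sum]
  refine (Finset.sum_congr rfl fun (k : K) _ => (act_mul ρ a (k : M) v).symm).trans ?_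
  exact Equiv.sum_comp (Equiv.mulLeft (⟨a, ha⟩ : K)) (fun k : K => ρ (k : M) v)

theorem avg_of_fix {ρ : M →* AddMonoid.End V} {K : Subgroup M} {v : V} (hv : v ∈ fix ρ K) :
    avg ρ K v = Nat.card K • v := by
  haveI := Fintype.ofFinite K
  rw [avg_apply, Finset.sum_congr rfl fun (k : K) _ => hv k k.2, Finset.sum_const, Finset.card_univ,
    Nat.card_eq_fintype_card]

/-- A non-cyclic elementary abelian group of operators: some element fixes a non-zero vector. -/
theorem exists_fixed [Finite V] {p : ℕ} [hp : Fact p.Prime] (hV : (Nat.card V).Coprime p)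
    (ρ : M →* AddMonoid.End V) {y z : M} (hy : y ^ p = 1) (hz : z ^ p = 1) (hyz : Commute y z)
    (hy1 : y ∉ zpowers z) (hz1 : z ≠ 1) (v₁ : V) (hv₁ : v₁ ≠ 0) :
    ∃ w ∈ (zpowers y ⊔ zpowers z : Subgroup M), w ≠ 1 ∧ ∃ v : V, v ≠ 0 ∧ ρ w v = v := by
  by_contra hcon
  push Not at hcon
  have hY : y ∈ (zpowers y ⊔ zpowers z : Subgroup M) := mem_sup_left (mem_zpowers y)
  have hZ : z ∈ (zpowers y ⊔ zpowers z : Subgroup M) := mem_sup_right (mem_zpowers z)
  have hfix : ∀ w ∈ (zpowers y ⊔ zpowers z : Subgroup M), w ≠ 1 → w ^ p = 1 → ∀ u : V,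
      ∑ j ∈ Finset.range p, ρ (w ^ j) u = 0 := by
    intro w hw hw1 hwp u
    by_contra hne
    refine hcon w hw hw1 _ hne ?_
    rw [map_sum]
    have h1 : ∀ j, ρ w (ρ (w ^ j) u) = ρ (w ^ (j + 1)) u := fun j => by rw [← act_mul, ← pow_succ']
    simp only [h1]
    have := Finset.sum_range_succ (fun j => ρ (w ^ j) u) p
    rw [Finset.sum_range_succ'] at this
    rw [hwp, pow_zero] at this
    exact add_right_cancel this
  apply hv₁
  refine eq_zero_of_nsmul (n := p) hV ?_
  have key : ∑ j ∈ Finset.range p, ∑ i ∈ Finset.range p, ρ ((y * z ^ i) ^ j) v₁ = p • v₁ := by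
    rw [Finset.sum_eq_single_of_mem 0 (Finset.mem_range.2 hp.out.pos)]
    · simp [act_one]
    intro j hj hj0
    have hzj : z ^ j ≠ 1 := fun e => by
      have h1 : orderOf z = p := orderOf_eq_prime hz hz1
      have h2 := Nat.le_of_dvd (Nat.pos_of_ne_zero hj0) (h1 ▸ orderOf_dvd_of_pow_eq_one e)
      exact absurd (Finset.mem_range.1 hj) (not_lt.2 h2)
    have e : ∀ i, ρ ((y * z ^ i) ^ j) v₁ = ρ (y ^ j) (ρ ((z ^ j) ^ i) v₁) := fun i => by
      rw [(hyz.pow_right i).mul_pow, act_mul, ← pow_mul, ← pow_mul, mul_comm i j]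
    simp only [e]
    rw [← map_sum, hfix _ (pow_mem hZ j) hzj (by rw [← pow_mul, mul_comm, pow_mul, hz, one_pow]),
      map_zero]
  rw [← key, Finset.sum_comm]
  refine Finset.sum_eq_zero fun i _ => hfix _ (mul_mem hY (pow_mem hZ i)) (fun e => hy1 ?_) ?_ v₁
  · rw [eq_inv_of_mul_eq_one_left e]
    exact inv_mem (pow_mem (mem_zpowers z) i)
  · rw [(hyz.pow_right i).mul_pow, hy, ← pow_mul, mul_comm, pow_mul, hz, one_pow, mul_one]

/-- Reduction when the normal `p`-subgroup contains a non-cyclic abelian normal subgroup. -/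
theorem abelian_step [Finite V] {p : ℕ} [hp : Fact p.Prime] (hp2 : p ≠ 2)
    (hV : (Nat.card V).Coprime p)
    (ih : ∀ m < Nat.card V, Goal.{u, v} p m) (ρ : M →* AddMonoid.End V) (hinj : Function.Injective ρ)
    (hirr : ∀ W : AddSubgroup V, (∀ g, ∀ w ∈ W, ρ g w ∈ W) → W = ⊥ ∨ W = ⊤)
    {P : Subgroup M} [P.Normal] (hP : IsPGroup p P) {x : M} (hx : x ∈ P) (hx1 : ρ x ≠ 1)
    {W : Subgroup M} [W.Normal] (hWP : W ≤ P) (hWab : ∀ a ∈ W, ∀ b ∈ W, a * b = b * a)
    (hWc : ¬ IsCyclic W) : Avoid ρ x := by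
  classical
  obtain ⟨v₁, hv₁⟩ := exists_moved hx1
  have hv₁0 : v₁ ≠ 0 := fun e => hv₁ (by rw [e, map_zero])
  let E : Subgroup M :=
    { carrier := {w | w ∈ W ∧ w ^ p = 1}
      one_mem' := ⟨one_mem _, one_pow _⟩
      mul_mem' := fun {a b} ha hb => ⟨mul_mem ha.1 hb.1, by
        rw [(show Commute a b from hWab a ha.1 b hb.1).mul_pow, ha.2, hb.2, mul_one]⟩
      inv_mem' := fun {a} ha => ⟨inv_mem ha.1, by rw [inv_pow, ha.2, inv_one]⟩ }
  have hEn : ∀ g, ∀ w ∈ E, g * w * g⁻¹ ∈ E := fun g w hw =>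
    ⟨Subgroup.Normal.conj_mem inferInstance w hw.1 g, by rw [conj_pow, hw.2, mul_one, mul_inv_cancel]⟩
  have hpair : ∃ y ∈ E, ∃ z ∈ E, z ≠ 1 ∧ y ∉ zpowers z := by
    by_contra hcon
    push Not at hcon
    apply hWc
    by_cases hE : ∃ z ∈ E, z ≠ 1
    · obtain ⟨z, hz, hz1⟩ := hE
      refine Invol.isCyclic_of_pow_eq_one_mem (hP.to_le hWP) hp2 (z := (⟨z, hz.1⟩ : W))
        (Subgroup.mem_center_iff.2 fun a => Subtype.ext (hWab a a.2 z hz.1)) (Subtype.ext hz.2) ?_
      intro y hy
      obtain ⟨i, hi⟩ := Subgroup.mem_zpowers_iff.1 (hcon y ⟨y.2, congrArg Subtype.val hy⟩ z hz hz1)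
      exact Subgroup.mem_zpowers_iff.2 ⟨i, Subtype.ext hi⟩
    · push Not at hE
      refine Invol.isCyclic_of_pow_eq_one_mem (hP.to_le hWP) hp2 (z := 1) (one_mem _) (one_pow _) ?_
      intro y hy
      have : (y : M) = 1 := hE y ⟨y.2, congrArg Subtype.val hy⟩
      exact Subgroup.mem_zpowers_iff.2 ⟨1, Subtype.ext (by simpa using this.symm)⟩
  obtain ⟨y, hy, z, hz, hz1, hyz⟩ := hpair
  -- no vector is fixed by all of `E`
  have hfixE : fix ρ E = ⊥ := by
    refine (hirr (fix ρ E) fun g w hw k hk => ?_).resolve_right fun htop => hz1 (hinj ?_)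
    · have h1 := hw _ (by simpa using hEn g⁻¹ k hk)
      calc ρ k (ρ g w) = ρ g (ρ (g⁻¹ * k * g) w) := by rw [← act_mul, ← act_mul]; group
        _ = ρ g w := by rw [h1]
    · rw [map_one]
      exact AddMonoidHom.ext fun v => (htop.ge (AddSubgroup.mem_top v) : v ∈ fix ρ E) z hz
  -- maximal subgroups of `E` with fixed vectors
  obtain ⟨w, hwE, hw1, v, hv0, hwv⟩ := exists_fixed hV ρ hy.2 hz.2 (hWab y hy.1 z hz.1) hyz hz1 v₁ hv₁0
  have hwE' : w ∈ E := (sup_le (zpowers_le.2 hy) (zpowers_le.2 hz) : _ ≤ E) hwE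
  obtain ⟨K₀, hK₀le, ⟨hK₀E, hK₀f⟩, hK₀max⟩ :=
    Finite.exists_le_maximal (p := fun K : Subgroup M => K ≤ E ∧ fix ρ K ≠ ⊥) (a := zpowers w)
      ⟨zpowers_le.2 hwE', fun e => hv0 (by
        have hm : v ∈ fix ρ (zpowers w) := by
          intro k hk
          obtain ⟨n, rfl⟩ := (mem_zpowers_iff.1 hk)
          obtain ⟨j, hj⟩ : ∃ j : ℕ, w ^ n = w ^ j := by
            obtain ⟨j, hj⟩ := (isOfFinOrder_of_finite w).mem_powers_iff_mem_zpowers.2 hk
            exact ⟨j, hj.symm⟩
          rw [hj]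
          clear hj
          induction j with
          | zero => rw [pow_zero, act_one]
          | succ j hj => rw [pow_succ, act_mul, hwv, hj]
        simpa [e] using hm)⟩
  have hK₀1 : K₀ ≠ ⊥ := fun e => hw1 (by simpa [e] using hK₀le (mem_zpowers w))
  let c : M → Subgroup M := fun g => K₀.map (MulAut.conj g).toMonoidHom
  have hcE : ∀ g, c g ≤ E := by
    rintro g _ ⟨k, hk, rfl⟩
    exact hEn g k (hK₀E hk)
  have hcmax : ∀ g (L : Subgroup M), L ≤ E → fix ρ L ≠ ⊥ → c g ≤ L → L ≤ c g := by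
    intro g L hLE hLf hle
    set L' := L.map (MulAut.conj g⁻¹).toMonoidHom
    have h1 : K₀ ≤ L' := by
      have := Subgroup.map_mono (f := (MulAut.conj g⁻¹).toMonoidHom) hle
      rwa [map_conj_mul, inv_mul_cancel, map_conj_one] at this
    have h2 : L' ≤ E := by
      rintro _ ⟨k, hk, rfl⟩
      exact hEn g⁻¹ k (hLE hk)
    have h3 : fix ρ L' ≠ ⊥ := by
      obtain ⟨u, hu, hu0⟩ := (AddSubgroup.bot_or_exists_ne_zero _).resolve_left hLf
      intro e
      have := fix_conj hu g⁻¹
      rw [e, AddSubgroup.mem_bot] at this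
      exact hu0 (by rw [← act_inv_cancel ρ g⁻¹ u, this, map_zero])
    have h4 := Subgroup.map_mono (f := (MulAut.conj g).toMonoidHom) (hK₀max ⟨h2, h3⟩ h1)
    rwa [map_conj_mul, mul_inv_cancel, map_conj_one] at h4
  -- distinct translates annihilate each other
  have hkill : ∀ g g', c g ≠ c g' → ∀ u ∈ fix ρ (c g'), avg ρ (c g) u = 0 := by
    intro g g' hne u hu
    by_contra h0
    refine hne (le_antisymm ?_ ?_)
    all_goals
      have hf : fix ρ (c g ⊔ c g') ≠ ⊥ := by
        intro e
        apply h0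
        rw [← AddSubgroup.mem_bot, ← e]
        intro k hk
        haveI := Fintype.ofFinite (c g)
        rw [Subgroup.sup_eq_closure] at hk
        induction hk using Subgroup.closure_induction with
        | mem a ha =>
          rcases ha with ha | ha
          · exact avg_mem ρ _ u a ha
          · rw [avg_apply, map_sum]
            refine Finset.sum_congr rfl fun b _ => ?_
            rw [← act_mul, hWab a (hcE g' ha).1 b (hcE g b.2).1, act_mul, hu a ha]
        | one => exact act_one ρ _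
        | mul a b _ _ ha hb => rw [act_mul, hb, ha]
        | inv a _ ha =>
          conv_lhs => rw [← ha]
          exact act_inv_cancel ρ a _
    · exact le_sup_left.trans (hcmax g' _ (sup_le (hcE g) (hcE g')) hf le_sup_right)
    · exact le_sup_right.trans (hcmax g _ (sup_le (hcE g) (hcE g')) hf le_sup_left)
  -- the normalizer is proper
  have hN : ({ carrier := {g | c g = K₀}
               one_mem' := map_conj_one K₀
               mul_mem' := fun {a b} ha hb => by
                 change c _ = K₀ at ha hb ⊢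
                 simp only [c] at ha hb ⊢
                 rw [← map_conj_mul, hb, ha]
               inv_mem' := fun {a} ha => by
                 change c _ = K₀ at ha ⊢
                 simp only [c] at ha ⊢
                 conv_lhs => rw [← ha, map_conj_mul, inv_mul_cancel, map_conj_one] } : Subgroup M) ≠ ⊤ := by
    intro htop
    have hK : ∀ g, c g = K₀ := fun g => htop.ge (Subgroup.mem_top g)
    rcases hirr (fix ρ K₀) (fun g u hu => by
      have := fix_conj hu g
      rwa [show K₀.map (MulAut.conj g).toMonoidHom = K₀ from hK g] at this) with h | h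
    · exact hK₀f h
    · refine hK₀1 ((Subgroup.eq_bot_iff_forall _).2 fun k hk => hinj ?_)
      rw [map_one]
      exact AddMonoidHom.ext fun v => (h.ge (AddSubgroup.mem_top v) : v ∈ fix ρ K₀) k hk
  obtain ⟨Mx, hMx, hNMx⟩ := (eq_top_or_exists_le_coatom _).resolve_left hN
  have hmk : ∀ g g', c g = c g' → (QuotientGroup.mk g : M ⧸ Mx) = QuotientGroup.mk g' := by
    intro g g' h
    refine QuotientGroup.eq.2 (hNMx ?_)
    show c (g⁻¹ * g') = K₀
    simp only [c] at h ⊢
    rw [← map_conj_mul, ← h, map_conj_mul, inv_mul_cancel, map_conj_one]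
  let U : M ⧸ Mx → AddSubgroup V := fun d =>
    ⨆ (g : M) (_ : QuotientGroup.mk g = d), fix ρ (c g)
  have hUle : ∀ g, fix ρ (c g) ≤ U (QuotientGroup.mk g) := fun g =>
    le_iSup₂ (f := fun (g' : M) (_ : QuotientGroup.mk g' = (QuotientGroup.mk g : M ⧸ Mx)) => fix ρ (c g'))
      g rfl
  haveI := Fintype.ofFinite M
  let O : Finset (Subgroup M) := Finset.univ.image c
  have hcard : ∀ g, Nat.card (c g) = Nat.card K₀ := fun g =>
    Subgroup.card_map_of_injective (MulAut.conj g).injective
  have hspan : ⨆ d, U d = ⊤ := by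
    rcases hirr (⨆ d, U d) (fun h w hw => by
      have hle : (⨆ d, U d) ≤ (⨆ d, U d).comap (ρ h : V →+ V) := by
        refine iSup_le fun d => iSup₂_le fun g _ u hu => ?_
        refine le_iSup U (QuotientGroup.mk (h * g)) (hUle (h * g) ?_)
        simp only [c]
        rw [← map_conj_mul]
        exact fix_conj hu h
      exact hle hw) with h | h
    · refine absurd ?_ hK₀f
      refine le_bot_iff.1 (h ▸ ?_)
      have := (hUle 1).trans (le_iSup U _)
      simpa only [c, map_conj_one] using this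
    · exact h
  have hsum : ∀ v : V, ∑ K ∈ O, avg ρ K v = Nat.card K₀ • v := by
    intro v
    have hle : (⨆ d, U d) ≤ AddMonoidHom.eqLocus (∑ K ∈ O, avg ρ K) (nsmulAddMonoidHom (Nat.card K₀)) := by
      refine iSup_le fun d => iSup₂_le fun g _ u hu => ?_
      show (∑ K ∈ O, avg ρ K) u = Nat.card K₀ • u
      rw [AddMonoidHom.finsetSum_apply, Finset.sum_eq_single_of_mem (c g) (Finset.mem_image_of_mem c (Finset.mem_univ g)),
        avg_of_fix hu, hcard]
      intro K hK hne
      obtain ⟨g', -, rfl⟩ := Finset.mem_image.1 hK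
      exact hkill g' g hne u hu
    have := hle (hspan ▸ AddSubgroup.mem_top v)
    have h2 : (∑ K ∈ O, avg ρ K) v = Nat.card K₀ • v := this
    rwa [AddMonoidHom.finsetSum_apply] at h2
  refine block_step hV ih ρ hP hx hx1 hMx U ?_ ?_ ?_ hspan
  · intro d e
    obtain ⟨g, rfl⟩ := QuotientGroup.mk_surjective d
    obtain ⟨u, hu, hu0⟩ := (AddSubgroup.bot_or_exists_ne_zero _).resolve_left hK₀f
    have := hUle g (fix_conj hu g)
    rw [e, AddSubgroup.mem_bot] at this
    exact hu0 (by rw [← act_inv_cancel ρ g u, this, map_zero])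
  · intro h d u hu
    have hle : U d ≤ (U (h • d)).comap (ρ h : V →+ V) := by
      refine iSup₂_le fun g hg w hw => ?_
      subst hg
      refine hUle (h * g) ?_
      simp only [c]
      rw [← map_conj_mul]
      exact fix_conj hw h
    exact hle hu
  · intro f hf hf0 d
    haveI := Fintype.ofFinite (M ⧸ Mx)
    rw [finsum_eq_sum_of_fintype] at hf0
    refine eq_zero_of_nsmul (coprime_card hV (hP.to_le (hK₀E.trans fun a ha => hWP ha.1))) ?_
    rw [← hsum]
    refine Finset.sum_eq_zero fun K hK => ?_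
    obtain ⟨g, -, rfl⟩ := Finset.mem_image.1 hK
    have hout : ∀ d', d' ≠ QuotientGroup.mk g → avg ρ (c g) (f d') = 0 := by
      intro d' hd'
      have hle : U d' ≤ (avg ρ (c g)).ker := by
        refine iSup₂_le fun g' hg' w hw => hkill g g' (fun e => hd' ?_) w hw
        rw [← hg', hmk g g' e]
      exact hle (hf d')
    by_cases hd : d = QuotientGroup.mk g
    · subst hd
      have h := congrArg (avg ρ (c g)) hf0
      rw [map_sum, map_zero, Finset.sum_eq_single_of_mem _ (Finset.mem_univ _) fun d' _ h' => hout d' h'] at h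
      exact h
    · exact hout d hd

end Cfsg.Agent.Block.AvoidFix
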