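import Mathlib
import Cfsg.Agent.Lib.Block.AvoidFix.Elementary
import Cfsg.Agent.Lib.Grp.SymplecticType

/-!
The primitive case: counting the fixed vectors of the elements of order `p` of a group of class two.
-/

set_option autoImplicit false
set_option linter.style.haveILetI false

namespace Cfsg.Agent.Block.AvoidFix

open Subgroup
open scoped commutatorElement

universe u v

theorem six_pow_bound : ∀ k : ℕ, 1 ≤ k → 27 * k ^ 6 < 8 * 16 ^ k := by
  intro k hk
  induction k with
  | zero => omega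
  | succ n ih =>
    rcases Nat.lt_or_ge n 3 with h | h
    · interval_cases n <;> norm_num
    · have h1 := ih (by omega)
      have h2 : (3 * (n + 1)) ^ 6 ≤ (4 * n) ^ 6 := Nat.pow_le_pow_left (by omega) 6
      rw [mul_pow, mul_pow] at h2
      have h3 : (n + 1) ^ 6 ≤ 16 * n ^ 6 := by norm_num at h2; omega
      rw [show (16 : ℕ) ^ (n + 1) = 16 * 16 ^ n from pow_succ' 16 n]
      omega

theorem cyclic_unique {G : Type*} [Group G] [Finite G] [IsCyclic G] {p : ℕ} [hp : Fact p.Prime] {z w : G}
    (hz : z ^ p = 1) (hz1 : z ≠ 1) (hw : w ^ p = 1) : w ∈ zpowers z := by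
  classical
  haveI := Fintype.ofFinite G
  have ho : orderOf z = p := orderOf_eq_prime hz hz1
  by_contra hne
  let S : Finset G := Finset.univ.filter fun a => a ^ p = 1
  have h1 : S.card ≤ p := IsCyclic.card_pow_eq_one_le hp.out.pos
  have h2 : insert w (Finset.univ.filter fun a => a ∈ zpowers z) ⊆ S := by
    intro a ha
    simp only [S, Finset.mem_insert, Finset.mem_filter, Finset.mem_univ, true_and] at ha ⊢
    rcases ha with rfl | ha
    · exact hw
    · obtain ⟨i, rfl⟩ := mem_zpowers_iff.1 ha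
      rw [← zpow_natCast, zpow_comm, zpow_natCast, hz, one_zpow]
  have h3 := Finset.card_le_card h2
  rw [Finset.card_insert_of_notMem (by simpa using hne)] at h3
  have h4 : (Finset.univ.filter fun a => a ∈ zpowers z).card = p := by
    rw [← Fintype.card_subtype, ← Nat.card_eq_fintype_card]
    exact (Nat.card_zpowers z).trans ho
  omega

/-- A `p`-group, `p` odd, without non-cyclic abelian characteristic subgroup has commutators central
of order dividing `p`. -/
theorem class_two {G : Type*} [Group G] [Finite G] {p : ℕ} [hp : Fact p.Prime] (hp2 : p ≠ 2)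
    (hG : IsPGroup p G)
    (hsymp : ∀ A : Subgroup G, A.Characteristic → IsMulCommutative A → IsCyclic A) (a b : G) :
    ⁅a, b⁆ ∈ center G ∧ ⁅a, b⁆ ^ p = 1 := by
  obtain ⟨E, R, hER, htop, hE, hR⟩ := Grp.Symplectic.main hG hsymp
  have hR : IsCyclic R := hR.resolve_right fun h => hp2 h.1
  haveI := hR.commutative
  have hRab : ∀ r ∈ R, ∀ r' ∈ R, r * r' = r' * r := fun r hr r' hr' =>
    congrArg Subtype.val (mul_comm' (⟨r, hr⟩ : R) ⟨r', hr'⟩)
  have hcen : ∀ c : G, (∀ e ∈ E, e * c = c * e) → (∀ r ∈ R, r * c = c * r) → c ∈ center G := by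
    intro c h1 h2
    have hle : E ⊔ R ≤ centralizer ({c} : Set G) :=
      sup_le (fun e he => mem_centralizer_singleton_iff.2 (h1 e he))
        (fun r hr => mem_centralizer_singleton_iff.2 (h2 r hr))
    exact mem_center_iff.2 fun g => mem_centralizer_singleton_iff.1 (hle (htop ▸ mem_top g))
  have hRc : R ≤ center G := fun r hr => hcen r (fun e he => hER e he r hr) fun r' hr' => hRab r' hr' r hr
  haveI : R.Normal := ⟨fun r hr g => by rwa [mem_center_iff.1 (hRc hr) g, mul_inv_cancel_right]⟩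
  have hdec : ∀ g : G, ∃ e ∈ E, ∃ r ∈ R, e * r = g := fun g => by
    have hg : g ∈ ((E ⊔ R : Subgroup G) : Set G) := by rw [htop]; trivial
    rw [Subgroup.mul_normal] at hg
    exact hg
  obtain ⟨e, he, r, hr, rfl⟩ := hdec a
  obtain ⟨e', he', r', hr', rfl⟩ := hdec b
  have hEE : ⁅e * r, e' * r'⁆ = ⁅e, e'⁆ := by
    have c1 := mem_center_iff.1 (hRc hr)
    have c2 := mem_center_iff.1 (hRc hr')
    rw [commutatorElement_def, commutatorElement_def]
    calc e * r * (e' * r') * (e * r)⁻¹ * (e' * r')⁻¹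
        = e * (r * e') * (r' * r⁻¹ * e⁻¹) * r'⁻¹ * e'⁻¹ := by group
      _ = e * e' * (r * (r' * r⁻¹) * e⁻¹ * r'⁻¹) * e'⁻¹ := by rw [← c1]; group
      _ = e * e' * (r' * e⁻¹ * r'⁻¹) * e'⁻¹ := by
        rw [show r * (r' * r⁻¹) = r' by rw [← mul_assoc, ← c1, mul_inv_cancel_right]]
      _ = e * e' * e⁻¹ * e'⁻¹ := by rw [← c2, mul_inv_cancel_right]
  rw [hEE]
  rcases hE with rfl | hE
  · rw [mem_bot] at he
    subst he
    simp
  · have hs : commutator E = center E := by
      exact hE.1.2.2
    have hm : ⁅(⟨e, he⟩ : E), ⟨e', he'⟩⁆ ∈ center E :=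
      hs ▸ commutator_mem_commutator (mem_top _) (mem_top _)
    refine ⟨hcen _ (fun f hf => congrArg Subtype.val (mem_center_iff.1 hm ⟨f, hf⟩)) (fun s hs' =>
      (mem_center_iff.1 (hRc hs') _).symm), ?_⟩
    have h2 : (⟨⁅(⟨e, he⟩ : E), ⟨e', he'⟩⁆, hm⟩ : center E) ^ Nat.card (center E) = 1 := pow_card_eq_one'
    rw [hE.2] at h2
    exact congrArg (fun c : center E => ((c : E) : G)) h2

variable {M : Type u} [Group M] [Finite M] {V : Type v} [AddCommGroup V] [Finite V]

theorem sum_act_eq_zero {H : Type*} [Group H] [Fintype H] (f : H →* M) (ρ : M →* AddMonoid.End V)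
    {h₀ : H} (hfpf : ∀ v, ρ (f h₀) v = v → v = 0) (v : V) : ∑ h : H, ρ (f h) v = 0 := by
  refine hfpf _ ?_
  rw [map_sum]
  refine Eq.trans ?_ (Equiv.sum_comp (Equiv.mulLeft h₀) (fun h => ρ (f h) v))
  exact Finset.sum_congr rfl fun h _ => by rw [← act_mul, ← map_mul]; rfl

variable {p : ℕ} [hp : Fact p.Prime]

theorem sum_range_eq_zero (ρ : M →* AddMonoid.End V) {d : M} (hd : d ^ p = 1)
    (hfpf : ∀ v, ρ d v = v → v = 0) (v : V) : ∑ j ∈ Finset.range p, ρ (d ^ j) v = 0 := by
  refine hfpf _ ?_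
  rw [map_sum]
  have h1 : ∀ j, ρ d (ρ (d ^ j) v) = ρ (d ^ (j + 1)) v := fun j => by rw [← act_mul, ← pow_succ']
  simp only [h1]
  have := Finset.sum_range_succ (fun j => ρ (d ^ j) v) p
  rw [Finset.sum_range_succ'] at this
  rw [hd, pow_zero] at this
  exact add_right_cancel this

/-- The fixed space of a non-central element is small. -/
theorem fix_pow_le (hV : (Nat.card V).Coprime p) (ρ : M →* AddMonoid.End V) {y w : M} (hy : y ^ p = 1)
    (hc : y⁻¹ * (w * y * w⁻¹) ∈ center M) (hcp : (y⁻¹ * (w * y * w⁻¹)) ^ p = 1)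
    (hfpf : ∀ d ∈ zpowers (y⁻¹ * (w * y * w⁻¹)), d ≠ 1 → ∀ v, ρ d v = v → v = 0)
    (hc1 : y⁻¹ * (w * y * w⁻¹) ≠ 1) :
    Nat.card {v : V // ρ y v = v} ^ p ≤ Nat.card V := by
  classical
  set c := y⁻¹ * (w * y * w⁻¹) with hcdef
  have hw : w * y * w⁻¹ = y * c := by rw [hcdef]; group
  have hcc := mem_center_iff.1 hc
  have hwi : ∀ i : ℕ, w ^ i * y * (w ^ i)⁻¹ = y * c ^ i := by
    intro i
    induction i with
    | zero => simp
    | succ i ih =>
      calc w ^ (i + 1) * y * (w ^ (i + 1))⁻¹ = w ^ i * (w * y * w⁻¹) * (w ^ i)⁻¹ := by group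
        _ = (w ^ i * y * (w ^ i)⁻¹) * (w ^ i * c * (w ^ i)⁻¹) := by rw [hw]; group
        _ = y * c ^ (i + 1) := by rw [ih, hcc, mul_inv_cancel_right, mul_assoc, ← pow_succ]
  have hord : orderOf c = p := orderOf_eq_prime hcp hc1
  let φ : (Fin p → {v : V // ρ y v = v}) → V := fun f => ∑ i : Fin p, ρ (w ^ (i : ℕ)) (f i : V)
  have hφ : Function.Injective φ := by
    intro f g hfg
    funext k
    apply Subtype.ext
    have hzero : ∑ i : Fin p, ρ (w ^ (i : ℕ)) ((f i : V) - g i) = 0 := by
      simp only [map_sub, Finset.sum_sub_distrib]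
      exact sub_eq_zero.2 hfg
    set yk := y * c ^ (k : ℕ) with hyk
    have h := congrArg (fun v => ∑ j ∈ Finset.range p, ρ (yk ^ j) v) hzero
    simp only [map_sum, map_zero, Finset.sum_const_zero] at h
    rw [Finset.sum_comm, Finset.sum_eq_single_of_mem k (Finset.mem_univ _)] at h
    · have hfixk : ∀ j : ℕ, ρ (yk ^ j) (ρ (w ^ (k : ℕ)) ((f k : V) - g k)) = ρ (w ^ (k : ℕ)) ((f k : V) - g k) := by
        intro j
        induction j with
        | zero => rw [pow_zero, act_one]
        | succ j ih =>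
          have h1 : ρ yk (ρ (w ^ (k : ℕ)) ((f k : V) - g k)) = ρ (w ^ (k : ℕ)) ((f k : V) - g k) := by
            rw [← act_mul, hyk, ← hwi, inv_mul_cancel_right, act_mul, map_sub (ρ y), (f k).2, (g k).2]
          rw [pow_succ, act_mul, h1, ih]
      simp only [hfixk, Finset.sum_const, Finset.card_range] at h
      have := congrArg (ρ (w ^ (k : ℕ))⁻¹) (eq_zero_of_nsmul hV h)
      rw [act_inv_cancel, map_zero, sub_eq_zero] at this
      exact this
    · intro i _ hik
      set u := ρ (w ^ (i : ℕ)) ((f i : V) - g i)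
      set yi := y * c ^ (i : ℕ) with hyi
      have hfixi : ∀ j : ℕ, ρ (yi ^ j) u = u := by
        intro j
        induction j with
        | zero => rw [pow_zero, act_one]
        | succ j ih =>
          have h1 : ρ yi u = u := by
            show ρ yi (ρ (w ^ (i : ℕ)) _) = ρ (w ^ (i : ℕ)) _
            rw [← act_mul, hyi, ← hwi, inv_mul_cancel_right, act_mul, map_sub (ρ y), (f i).2, (g i).2]
          rw [pow_succ, act_mul, h1, ih]
      set d := c ^ (((k : ℕ) : ℤ) - (i : ℕ)) with hd
      have hdyk : yk = d * yi := by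
        rw [hyi, hyk, ← mul_assoc, ← (Commute.zpow_right (hcc y) _).eq, mul_assoc,
          ← zpow_natCast c i, ← zpow_add, sub_add_cancel, zpow_natCast]
      have hd1 : d ≠ 1 := by
        intro e
        rw [hd, ← orderOf_dvd_iff_zpow_eq_one, hord] at e
        refine hik (Fin.ext ?_)
        have h1 := Int.eq_zero_of_abs_lt_dvd e (by rw [abs_lt]; omega)
        omega
      have hdp : d ^ p = 1 := by
        rw [hd, ← zpow_natCast (c ^ _), ← zpow_mul, mul_comm, zpow_mul, zpow_natCast, hcp, one_zpow]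
      have hdc : Commute d yi := (mem_center_iff.1 (zpow_mem hc _) yi).symm
      have : ∀ j, ρ (yk ^ j) u = ρ (d ^ j) u := fun j => by
        rw [hdyk, hdc.mul_pow, act_mul, hfixi]
      rw [Finset.sum_congr rfl fun j _ => this j]
      exact sum_range_eq_zero ρ hdp (hfpf d (zpow_mem (mem_zpowers c) _) hd1) u
  have := Nat.card_le_card_of_injective φ hφ
  rwa [Nat.card_fun, Nat.card_fin] at this

/-- The number of classes modulo the centre is bounded by the square of the dimension. -/
theorem count_step (hp2 : p ≠ 2) (hM : IsPGroup p M) (hV : (Nat.card V).Coprime p)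
    (ρ : M →* AddMonoid.End V) [Nontrivial V]
    (hmin : ∀ W : AddSubgroup V, (∀ g, ∀ w ∈ W, ρ g w ∈ W) → W = ⊥ ∨ W = ⊤)
    {z : M} (hz : z ∈ center M) (hzp : z ^ p = 1) (hz1 : z ≠ 1)
    (hfpf : ∀ d ∈ zpowers z, d ≠ 1 → ∀ v, ρ d v = v → v = 0)
    (homega : ∀ d ∈ center M, d ^ p = 1 → d ∈ zpowers z)
    (hcl : ∀ a b : M, ⁅a, b⁆ ∈ center M ∧ ⁅a, b⁆ ^ p = 1) :
    ∃ v : V, ∀ y : M, y ^ p = 1 → y ∉ center M → ρ y v ≠ v := by
  classical
  haveI := Fintype.ofFinite M
  haveI := Fintype.ofFinite V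
  set ζ : AddMonoid.End V := ρ z with hζ
  set D : Subring (AddMonoid.End V) := Subring.closure {ζ} with hD
  have hDc : ∀ a ∈ D, ∀ g : M, a * ρ g = ρ g * a := by
    intro a ha g
    have hle : D ≤ Subring.centralizer ({ρ g} : Set (AddMonoid.End V)) := by
      rw [hD, Subring.closure_le]
      rintro _ rfl
      rw [SetLike.mem_coe, Subring.mem_centralizer_iff]
      rintro _ rfl
      rw [hζ, ← map_mul, ← map_mul, mem_center_iff.1 hz]
    exact ((Subring.mem_centralizer_iff.1 (hle ha)) _ rfl).symm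
  have hker : ∀ a ∈ D, a ≠ 0 → ∀ v : V, a v = 0 → v = 0 := by
    intro a ha ha0 v hv
    rcases hmin (AddMonoidHom.ker (a : V →+ V)) (fun g w hw => by
      replace hw : a w = 0 := hw
      show (a * ρ g) w = 0
      rw [hDc a ha g]
      show ρ g (a w) = 0
      rw [hw, map_zero]) with h | h
    · exact (AddSubgroup.mem_bot).1 (h ▸ (AddMonoidHom.mem_ker.2 hv : v ∈ AddMonoidHom.ker (a : V →+ V)))
    · exact absurd (AddMonoidHom.ext fun w => AddMonoidHom.mem_ker.1 (h.ge (AddSubgroup.mem_top w))) ha0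
  letI : CommRing D :=
    { (inferInstance : Ring D) with
      mul_comm := fun a b => by
        have hle : D ≤ Subring.centralizer (D : Set (AddMonoid.End V)) := by
          rw [hD, Subring.closure_le]
          rintro _ rfl
          rw [SetLike.mem_coe, Subring.mem_centralizer_iff]
          intro c hc
          exact hDc c hc z
        exact Subtype.ext ((Subring.mem_centralizer_iff.1 (hle b.2)) _ a.2) }
  haveI : Nontrivial D := by
    obtain ⟨v, hv⟩ := exists_ne (0 : V)
    refine ⟨0, 1, fun e => hv ?_⟩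
    exact (DFunLike.congr_fun (congrArg Subtype.val e) v).symm
  haveI : NoZeroDivisors D := ⟨fun {a b} h => by
    by_contra hne
    push Not at hne
    apply hne.2
    refine Subtype.ext (AddMonoidHom.ext fun v => hker a.1 a.2 (fun e => hne.1 (Subtype.ext e)) _ ?_)
    exact DFunLike.congr_fun (congrArg Subtype.val h) v⟩
  haveI : IsDomain D := NoZeroDivisors.to_isDomain D
  haveI : Finite (AddMonoid.End V) :=
    Finite.of_injective (fun f : AddMonoid.End V => (f : V → V)) DFunLike.coe_injective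
  have hQ : 4 ≤ Nat.card D := by
    have hord : orderOf z = p := orderOf_eq_prime hzp hz1
    have hζD : ζ ∈ D := Subring.subset_closure (Set.mem_singleton ζ)
    let f : Option (Fin p) → D := fun o =>
      o.elim 0 fun i => ⟨ζ ^ (i : ℕ), pow_mem hζD (i : ℕ)⟩
    obtain ⟨v, hv⟩ := exists_ne (0 : V)
    have hnz : ∀ i : ℕ, (ζ ^ i : AddMonoid.End V) ≠ 0 := fun i e => hv (by
      have h1 := DFunLike.congr_fun e v
      rw [hζ, ← map_pow] at h1
      rw [← act_inv_cancel ρ (z ^ i) v, show ρ (z ^ i) v = 0 from h1, map_zero])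
    have hf : Function.Injective f := by
      rintro (_ | i) (_ | j) e
      · rfl
      · exact absurd (congrArg Subtype.val e).symm (hnz j)
      · exact absurd (congrArg Subtype.val e) (hnz i)
      · refine congrArg some (Fin.ext ?_)
        by_contra hne
        have e' : ρ (z ^ (i : ℕ)) v = ρ (z ^ (j : ℕ)) v := by
          have h1 := DFunLike.congr_fun (congrArg Subtype.val e) v
          simp only [f, Option.elim_some] at h1
          rwa [hζ, ← map_pow, ← map_pow] at h1
        set d := (z ^ (j : ℕ))⁻¹ * z ^ (i : ℕ) with hd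
        refine hv (hfpf d (mul_mem (inv_mem (pow_mem (mem_zpowers z) _)) (pow_mem (mem_zpowers z) _))
          (fun hd1 => hne ?_) v (by rw [hd, act_mul, e', act_inv_cancel]))
        exact pow_injOn_Iio_orderOf (hord.symm ▸ i.2) (hord.symm ▸ j.2)
          (inv_mul_eq_one.1 hd1).symm
    have := Nat.card_le_card_of_injective f hf
    rw [Nat.card_eq_fintype_card, Fintype.card_option, Fintype.card_fin] at this
    have := hp.out.two_le
    omega
  letI : Field D := (Finite.isField_of_domain D).toField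
  letI : Module D V :=
    { smul := fun a v => (a : AddMonoid.End V) v
      mul_smul := fun _ _ _ => rfl
      one_smul := fun _ => rfl
      smul_zero := fun a => map_zero (a : AddMonoid.End V)
      smul_add := fun a x y => map_add (a : AddMonoid.End V) x y
      add_smul := fun _ _ _ => rfl
      zero_smul := fun _ => rfl }
  set k := Module.finrank D V with hk
  have hQk : Nat.card V = Nat.card D ^ k := Module.natCard_eq_pow_finrank
  -- the classes modulo the centre are independent operators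
  have hclc : ∀ a b : M, ⁅a, b⁆ ∈ zpowers z := fun a b => homega _ (hcl a b).1 (hcl a b).2
  let φ : M → (M →* M) := fun t =>
    { toFun := fun y => ⁅y, t⁆
      map_one' := commutatorElement_one_left t
      map_mul' := fun y y' => by
        have h := mem_center_iff.1 (hcl y' t).1 y
        rw [show ⁅y * y', t⁆ = y * ⁅y', t⁆ * y⁻¹ * ⁅y, t⁆ by simp only [commutatorElement_def]; group,
          h, mul_inv_cancel_right]
        exact (mem_center_iff.1 (hcl y' t).1 _).symm }
  have hlin : ∀ (g : M), ∀ (a : D) (v : V), ρ g ((a : AddMonoid.End V) v) = (a : AddMonoid.End V) (ρ g v) :=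
    fun g a v => (DFunLike.congr_fun (hDc a.1 a.2 g) v).symm
  let T : M → (V →ₗ[D] V) := fun g =>
    { toFun := fun v => ρ g v
      map_add' := fun a b => map_add (ρ g) a b
      map_smul' := fun a v => hlin g a v }
  let Q := M ⧸ center M
  haveI := Fintype.ofFinite Q
  have hind : LinearIndependent D (fun t : Q => T t.out) := by
    rw [Fintype.linearIndependent_iff]
    intro d hd s
    by_contra hs
    obtain ⟨v, hv⟩ := exists_ne (0 : V)
    apply hv
    set A : Q → V := fun t => (d t : AddMonoid.End V) (ρ t.out v) with hA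
    -- conjugating the relation
    have hrel : ∀ y : M, ∑ t : Q, ρ ⁅y, t.out⁆ (A t) = 0 := by
      intro y
      have h := congrArg (ρ y) (DFunLike.congr_fun hd (ρ y⁻¹ v))
      rw [LinearMap.sum_apply, map_sum, LinearMap.zero_apply, map_zero] at h
      refine Eq.trans (Finset.sum_congr rfl fun t _ => ?_) h
      show ρ ⁅y, t.out⁆ ((d t : AddMonoid.End V) (ρ t.out v)) = ρ y ((d t : AddMonoid.End V) (ρ t.out (ρ y⁻¹ v)))
      rw [hlin, hlin, ← act_mul, ← act_mul, ← act_mul]
      congr 2
      rw [commutatorElement_def]; group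
    have h := Finset.sum_eq_zero (s := Finset.univ) fun (y : M) _ =>
      show ρ ⁅y, s.out⁆⁻¹ (∑ t : Q, ρ ⁅y, t.out⁆ (A t)) = 0 by rw [hrel y, map_zero]
    simp only [map_sum] at h
    rw [Finset.sum_comm, Finset.sum_eq_single_of_mem s (Finset.mem_univ _)] at h
    · simp only [act_inv_cancel, Finset.sum_const, Finset.card_univ] at h
      have hA0 : A s = 0 := eq_zero_of_nsmul (by
        obtain ⟨n, hn⟩ := hM.exists_card_eq
        rw [← Nat.card_eq_fintype_card, hn]; exact hV.pow_right n) h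
      have h2 := hker _ (d s).2 (fun e => hs (Subtype.ext e)) _ hA0
      rw [← act_inv_cancel ρ s.out v, h2, map_zero]
    · intro t _ hts
      let ψ : M →* M :=
        { toFun := fun y => ⁅y, s.out⁆⁻¹ * ⁅y, t.out⁆
          map_one' := by rw [commutatorElement_one_left, commutatorElement_one_left, inv_one, one_mul]
          map_mul' := fun y y' => by
            have e1 : ⁅y * y', s.out⁆ = ⁅y, s.out⁆ * ⁅y', s.out⁆ := (φ s.out).map_mul y y'
            have e2 : ⁅y * y', t.out⁆ = ⁅y, t.out⁆ * ⁅y', t.out⁆ := (φ t.out).map_mul y y'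
            rw [e1, e2, mul_inv_rev]
            have c1 := mem_center_iff.1 (inv_mem (hcl y' s.out).1)
            calc ⁅y', s.out⁆⁻¹ * ⁅y, s.out⁆⁻¹ * (⁅y, t.out⁆ * ⁅y', t.out⁆)
                = ⁅y', s.out⁆⁻¹ * (⁅y, s.out⁆⁻¹ * ⁅y, t.out⁆) * ⁅y', t.out⁆ := by group
              _ = ⁅y, s.out⁆⁻¹ * ⁅y, t.out⁆ * (⁅y', s.out⁆⁻¹ * ⁅y', t.out⁆) := by rw [← c1]; group }
      obtain ⟨y₀, hy₀⟩ : ∃ y₀ : M, ψ y₀ ≠ 1 := by
        by_contra hall
        push Not at hall
        refine hts ?_
        rw [← QuotientGroup.out_eq' t, ← QuotientGroup.out_eq' s, QuotientGroup.eq, mem_center_iff]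
        intro y
        have e : ⁅y, s.out⁆ = ⁅y, t.out⁆ := inv_mul_eq_one.1 (hall y)
        rw [commutatorElement_def, commutatorElement_def] at e
        have e' : y * s.out * y⁻¹ * s.out⁻¹ * t.out = y * t.out * y⁻¹ := by rw [e]; group
        calc y * ((t.out)⁻¹ * s.out) = y * ((t.out)⁻¹ * s.out) * y⁻¹ * y := by group
          _ = (y * t.out * y⁻¹)⁻¹ * (y * s.out * y⁻¹) * y := by group
          _ = (t.out)⁻¹ * s.out * y := by rw [← e']; group
      have h0 := sum_act_eq_zero ψ ρ (h₀ := y₀)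
        (hfpf _ (mul_mem (inv_mem (hclc _ _)) (hclc _ _)) hy₀) (A t)
      refine Eq.trans (Finset.sum_congr rfl fun y _ => ?_) h0
      rw [← act_mul]; rfl
  have hQle : Nat.card Q ≤ k * k := by
    rw [Nat.card_eq_fintype_card]
    exact hind.fintype_card_le_finrank.trans (Module.finrank_linearMap D D V V).le
  -- the count
  by_contra hcon
  push Not at hcon
  let S : Finset M := Finset.univ.filter fun y => y ^ p = 1 ∧ y ∉ center M
  have hScard : S.card ≤ p * Nat.card Q := by
    rw [Nat.card_eq_fintype_card, ← Finset.card_univ]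
    refine Finset.card_le_mul_card_image_of_maps_to (f := fun y => (QuotientGroup.mk y : Q))
      (fun _ _ => Finset.mem_univ _) p fun b _ => ?_
    rcases (S.filter fun y => (QuotientGroup.mk y : Q) = b).eq_empty_or_nonempty with he | ⟨y₀, hy₀⟩
    · rw [he]; exact Nat.zero_le _
    simp only [S, Finset.mem_filter, Finset.mem_univ, true_and] at hy₀
    refine (Finset.card_le_card (t := (Finset.range p).image fun i => y₀ * z ^ i) fun y hy => ?_).trans
      (Finset.card_image_le.trans (Finset.card_range p).le)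
    simp only [S, Finset.mem_filter, Finset.mem_univ, true_and] at hy
    have hm : y₀⁻¹ * y ∈ center M := QuotientGroup.eq.1 (hy₀.2.trans hy.2.symm)
    have hmp : (y₀⁻¹ * y) ^ p = 1 := by
      have hcm : Commute y₀ (y₀⁻¹ * y) := mem_center_iff.1 hm y₀
      have h1 := hcm.mul_pow p
      rwa [mul_inv_cancel_left, hy.1.1, hy₀.1.1, one_mul, eq_comm] at h1
    obtain ⟨i, hi⟩ := (isOfFinOrder_of_finite z).mem_powers_iff_mem_zpowers.2 (homega _ hm hmp)
    refine Finset.mem_image.2 ⟨i % p, Finset.mem_range.2 (Nat.mod_lt _ hp.out.pos), ?_⟩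
    rw [← pow_eq_pow_mod i hzp]
    show y₀ * z ^ i = y
    rw [show z ^ i = y₀⁻¹ * y from hi, mul_inv_cancel_left]
  have hfixle : ∀ y ∈ S, Nat.card {v : V // ρ y v = v} ^ 3 ≤ Nat.card V := by
    intro y hy
    simp only [S, Finset.mem_filter, Finset.mem_univ, true_and] at hy
    obtain ⟨w, hw⟩ : ∃ w, w * y ≠ y * w := by
      by_contra hall
      push Not at hall
      exact hy.2 (mem_center_iff.2 hall)
    have hc : y⁻¹ * (w * y * w⁻¹) = ⁅y⁻¹, w⁆ := by rw [commutatorElement_def]; group
    refine le_trans ?_ (fix_pow_le hV ρ hy.1 (hc ▸ (hcl _ _).1) (hc ▸ (hcl _ _).2)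
      (fun d hd => hfpf d ((zpowers_le.2 (hc ▸ hclc _ _)) hd)) (fun e => hw ?_))
    · refine Nat.pow_le_pow_right (Nat.card_pos_iff.2 ⟨⟨⟨0, map_zero _⟩⟩, inferInstance⟩) ?_
      have := hp.out.two_le
      omega
    · rw [inv_mul_eq_one, eq_mul_inv_iff_mul_eq] at e
      exact e.symm
  obtain ⟨y₁, hy₁S, hy₁max⟩ : ∃ y₁ ∈ S, ∀ y ∈ S,
      Nat.card {v : V // ρ y v = v} ≤ Nat.card {v : V // ρ y₁ v = v} := by
    refine Finset.exists_max_image S _ ?_
    obtain ⟨y, hy1, hy2, -⟩ := hcon 0
    exact ⟨y, Finset.mem_filter.2 ⟨Finset.mem_univ _, hy1, hy2⟩⟩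
  set C := Nat.card {v : V // ρ y₁ v = v}
  have hmain : (p - 1) * Nat.card V ≤ S.card * C := by
    have h1 : ∀ v : V, p - 1 ≤ (S.filter fun y => ρ y v = v).card := by
      intro v
      obtain ⟨y, hyp, hyc, hyv⟩ := hcon v
      have hord : orderOf y = p := orderOf_eq_prime hyp fun e => hyc (e ▸ one_mem _)
      refine le_of_eq_of_le (by
        rw [Finset.card_image_of_injOn, Nat.card_Ico]
        intro i hi j hj e
        exact pow_injOn_Iio_orderOf (hord.symm ▸ (Finset.mem_Ico.1 hi).2)
          (hord.symm ▸ (Finset.mem_Ico.1 hj).2) e)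
        (Finset.card_le_card (s := (Finset.Ico 1 p).image fun i => y ^ i) fun a ha => ?_)
      obtain ⟨i, hi, rfl⟩ := Finset.mem_image.1 ha
      rw [Finset.mem_Ico] at hi
      refine Finset.mem_filter.2 ⟨Finset.mem_filter.2 ⟨Finset.mem_univ _, ?_, ?_⟩, ?_⟩
      · rw [← pow_mul, mul_comm, pow_mul, hyp, one_pow]
      · intro hm
        apply hyc
        obtain ⟨m, hm'⟩ := exists_pow_eq_self_of_coprime (x := y) (n := i) (by
          rw [hord]
          exact (hp.out.coprime_iff_not_dvd.2 fun hd => absurd (Nat.le_of_dvd (by omega) hd) (by omega)).symm)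
        rw [← hm']
        exact pow_mem hm m
      · clear hi ha
        induction i with
        | zero => rw [pow_zero, act_one]
        | succ i ih => rw [pow_succ, act_mul, hyv, ih]
    calc (p - 1) * Nat.card V = ∑ _v : V, (p - 1) := by
          rw [Finset.sum_const, Finset.card_univ, Nat.card_eq_fintype_card, smul_eq_mul, mul_comm]
      _ ≤ ∑ v : V, (S.filter fun y => ρ y v = v).card := Finset.sum_le_sum fun v _ => h1 v
      _ = ∑ y ∈ S, (Finset.univ.filter fun v : V => ρ y v = v).card := by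
          simp only [Finset.card_filter]
          exact Finset.sum_comm
      _ ≤ ∑ _y ∈ S, C := Finset.sum_le_sum fun y hy => by
          have := hy₁max y hy
          rwa [Nat.card_eq_fintype_card, Fintype.card_subtype] at this
      _ = S.card * C := by rw [Finset.sum_const, smul_eq_mul]
  have hC3 : C ^ 3 ≤ Nat.card V := hfixle y₁ hy₁S
  have hk0 : 1 ≤ k := by
    by_contra hk0
    have h1 : Nat.card V = 1 := by rw [hQk, Nat.lt_one_iff.1 (not_le.1 hk0), pow_zero]
    exact absurd h1 (Finite.one_lt_card (α := V)).ne'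
  have hle : 2 * Nat.card V ≤ 3 * (k * k) * C := by
    have h1 : p * (2 * Nat.card V) ≤ p * (3 * (k * k) * C) := by
      have h2 : 2 * p ≤ 3 * (p - 1) := by have := hp.out.two_le; omega
      calc p * (2 * Nat.card V) = 2 * p * Nat.card V := by ring
        _ ≤ 3 * (p - 1) * Nat.card V := Nat.mul_le_mul_right _ h2
        _ = 3 * ((p - 1) * Nat.card V) := mul_assoc _ _ _
        _ ≤ 3 * (p * (k * k) * C) := Nat.mul_le_mul_left _
            (hmain.trans (Nat.mul_le_mul_right _ (hScard.trans (Nat.mul_le_mul_left _ hQle))))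
        _ = p * (3 * (k * k) * C) := by ring
    exact Nat.le_of_mul_le_mul_left h1 hp.out.pos
  have h3 := Nat.pow_le_pow_left hle 3
  rw [mul_pow, mul_pow (3 * (k * k)) C 3] at h3
  have hN : 0 < Nat.card V := Nat.card_pos
  have h4 : 8 * Nat.card V ^ 2 ≤ 27 * k ^ 6 := by
    refine Nat.le_of_mul_le_mul_right ?_ hN
    calc 8 * Nat.card V ^ 2 * Nat.card V = 2 ^ 3 * Nat.card V ^ 3 := by ring
      _ ≤ (3 * (k * k)) ^ 3 * C ^ 3 := h3
      _ ≤ (3 * (k * k)) ^ 3 * Nat.card V := Nat.mul_le_mul_left _ hC3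
      _ = 27 * k ^ 6 * Nat.card V := by ring
  have h5 : 16 ^ k ≤ Nat.card V ^ 2 := by
    rw [hQk, ← pow_mul, mul_comm k 2, pow_mul]
    exact Nat.pow_le_pow_left ((show 16 = 4 ^ 2 by norm_num) ▸ Nat.pow_le_pow_left hQ 2) k
  have := six_pow_bound k hk0
  omega

end Cfsg.Agent.Block.AvoidFix
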