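import Mathlib
import Cfsg.Agent.Lib.Block.AvoidFix.Count

/-!
For a normal `p`-subgroup, `p` odd, acting coprimely on an abelian group, every non-trivially acting
element has a conjugacy class no member of which fixes a suitable vector.
-/

set_option autoImplicit false
set_option linter.style.haveILetI false

namespace Cfsg.Agent.Block.AvoidFix

open Subgroup
open scoped commutatorElement

universe u v

variable {M : Type u} [Group M] [Finite M] {V : Type v} [AddCommGroup V] [Finite V]

theorem avoid_of_pow {ρ : M →* AddMonoid.End V} {x : M} {k : ℕ} (h : Avoid ρ (x ^ k)) : Avoid ρ x := by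
  obtain ⟨v, hv⟩ := h
  refine ⟨v, fun g hg => hv g ?_⟩
  rw [← conj_pow]
  clear hv
  induction k with
  | zero => rw [pow_zero, act_one]
  | succ i ih => rw [pow_succ, act_mul, hg, ih]

/-- The faithful irreducible case without non-cyclic abelian normal subgroups. -/
theorem primitive_step {p : ℕ} [hp : Fact p.Prime] (hp2 : p ≠ 2) (hV : (Nat.card V).Coprime p)
    (ρ : M →* AddMonoid.End V) (hinj : Function.Injective ρ) [Nontrivial V]
    (hirr : ∀ W : AddSubgroup V, (∀ g, ∀ w ∈ W, ρ g w ∈ W) → W = ⊥ ∨ W = ⊤)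
    {P : Subgroup M} [P.Normal] (hP : IsPGroup p P)
    (hab : ∀ W : Subgroup M, W.Normal → W ≤ P → (∀ a ∈ W, ∀ b ∈ W, a * b = b * a) → IsCyclic W)
    {x : M} (hx : x ∈ P) (hxp : x ^ p = 1) (hx1 : x ≠ 1) : Avoid ρ x := by
  classical
  have hsymp : ∀ A : Subgroup P, A.Characteristic → IsMulCommutative A → IsCyclic A := by
    intro A hA hAc
    haveI := hA
    haveI := hab (A.map P.subtype) inferInstance (Subgroup.map_subtype_le A) (by
      rintro _ ⟨a, ha, rfl⟩ _ ⟨b, hb, rfl⟩
      exact congrArg (fun c : A => ((c : P) : M)) (mul_comm' (⟨a, ha⟩ : A) ⟨b, hb⟩))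
    exact isCyclic_of_surjective (A.equivMapOfInjective P.subtype P.subtype_injective).symm
      (A.equivMapOfInjective P.subtype P.subtype_injective).symm.surjective
  haveI hZc : IsCyclic (center P) := hsymp _ inferInstance inferInstance
  haveI hZn : ((center P).map P.subtype).Normal := inferInstance
  -- subgroups of order `p` in the centre have no fixed points
  have hfpf : ∀ z : P, z ∈ center P → z ^ p = 1 → z ≠ 1 → ∀ d ∈ zpowers (z : M), d ≠ 1 →
      ∀ v, ρ d v = v → v = 0 := by
    intro z hz hzp hz1 d hd hd1 v hv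
    have hnorm : ∀ g : M, g * (z : M) * g⁻¹ ∈ zpowers (z : M) := by
      intro g
      obtain ⟨c, hc, hcg⟩ : g * (z : M) * g⁻¹ ∈ (center P).map P.subtype :=
        hZn.conj_mem _ (Subgroup.mem_map_of_mem _ hz) g
      have hcp : c ^ p = 1 := Subtype.ext (by
        rw [SubmonoidClass.coe_pow, show (c : M) = g * (z : M) * g⁻¹ from hcg, conj_pow,
          ← SubmonoidClass.coe_pow, hzp]
        simp)
      obtain ⟨i, hi⟩ := mem_zpowers_iff.1 (cyclic_unique (G := center P) (z := ⟨z, hz⟩) (w := ⟨c, hc⟩)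
        (Subtype.ext hzp) (fun e => hz1 (congrArg Subtype.val e)) (Subtype.ext hcp))
      rw [← hcg]
      exact mem_zpowers_iff.2 ⟨i, congrArg (fun a : center P => ((a : P) : M)) hi⟩
    have hzM : orderOf (z : M) = p := by
      rw [Subgroup.orderOf_coe]; exact orderOf_eq_prime hzp hz1
    have hzd : (z : M) ∈ zpowers d := by
      have h1 : zpowers d ≤ zpowers (z : M) := zpowers_le.2 hd
      have h2 : Nat.card (zpowers d) = p := by
        have h3 := Subgroup.card_dvd_of_le h1
        rw [Nat.card_zpowers (z : M), hzM] at h3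
        rcases (Nat.dvd_prime hp.out).1 h3 with h | h
        · exact absurd (zpowers_eq_bot.1 (Subgroup.card_eq_one.1 h)) hd1
        · exact h
      rw [Subgroup.eq_of_le_of_card_ge h1 (by rw [h2, Nat.card_zpowers, hzM])]
      exact mem_zpowers _
    rcases hirr (fix ρ (zpowers (z : M))) (fun g w hw k hk => by
      have hk' : g⁻¹ * k * g ∈ zpowers (z : M) := by
        obtain ⟨i, rfl⟩ := mem_zpowers_iff.1 hk
        have h4 := zpow_mem (hnorm g⁻¹) i
        rw [conj_zpow, inv_inv] at h4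
        exact h4
      have := hw _ hk'
      calc ρ k (ρ g w) = ρ g (ρ (g⁻¹ * k * g) w) := by rw [← act_mul, ← act_mul]; group
        _ = ρ g w := by rw [this]) with h | h
    · have hvz : v ∈ fix ρ (zpowers (z : M)) := by
        intro k hk
        obtain ⟨i, rfl⟩ := (isOfFinOrder_of_finite d).mem_powers_iff_mem_zpowers.2
          ((zpowers_le.2 hzd : zpowers (z : M) ≤ zpowers d) hk)
        clear hk
        show ρ (d ^ i) v = v
        induction i with
        | zero => rw [pow_zero, act_one]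
        | succ i ih => rw [pow_succ, act_mul, hv, ih]
      exact (AddSubgroup.mem_bot).1 (h ▸ hvz)
    · exfalso
      refine hz1 (Subtype.ext (hinj ?_))
      rw [OneMemClass.coe_one, map_one]
      exact AddMonoidHom.ext fun w => (h.ge (AddSubgroup.mem_top w) : w ∈ fix ρ _) z (mem_zpowers _)
  by_cases hxZ : (⟨x, hx⟩ : P) ∈ center P
  · obtain ⟨v, hv⟩ := exists_ne (0 : V)
    refine ⟨v, fun g hg => hv ?_⟩
    have h1 : ρ g⁻¹ v = 0 := hfpf ⟨x, hx⟩ hxZ (Subtype.ext hxp) (fun e => hx1 (congrArg Subtype.val e)) x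
      (mem_zpowers _) hx1 _ (by
        conv_rhs => rw [← hg, ← act_mul]
        rw [← act_mul]; group)
    have h2 : v = ρ g (ρ g⁻¹ v) := by rw [← act_mul, mul_inv_cancel, act_one]
    rw [h2, h1, map_zero]
  · haveI : Nontrivial P := ⟨⟨⟨x, hx⟩, 1, fun e => hx1 (congrArg Subtype.val e)⟩⟩
    haveI : Nontrivial (center P) := hP.center_nontrivial
    obtain ⟨⟨z, hz⟩, hzo⟩ := exists_prime_orderOf_dvd_card' (G := center P) p (by
      obtain ⟨k, hk, hk'⟩ := (hP.to_subgroup (center P)).nontrivial_iff_card.1 inferInstance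
      exact hk' ▸ dvd_pow_self p hk.ne')
    rw [Subgroup.orderOf_mk] at hzo
    have hzp : z ^ p = 1 := hzo ▸ pow_orderOf_eq_one z
    have hz1 : z ≠ 1 := fun e => hp.out.one_lt.ne (by rw [← hzo, e, orderOf_one])
    -- a minimal invariant subgroup
    obtain ⟨U, -, ⟨hUinv, hU0⟩, hUmin⟩ := Finite.exists_le_minimal
      (p := fun W : AddSubgroup V => (∀ g ∈ P, ∀ w ∈ W, ρ g w ∈ W) ∧ W ≠ ⊥) (a := (⊤ : AddSubgroup V))
      ⟨fun _ _ _ _ => AddSubgroup.mem_top _, top_ne_bot⟩
    haveI : Nontrivial U := (AddSubgroup.nontrivial_iff_ne_bot U).2 hU0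
    have hz' : ∀ d ∈ zpowers z, (d : M) ∈ zpowers (z : M) := fun d hd => by
      obtain ⟨i, rfl⟩ := mem_zpowers_iff.1 hd
      exact mem_zpowers_iff.2 ⟨i, by simp⟩
    obtain ⟨u, hu⟩ := count_step (M := P) (V := U) hp2 hP
      (hV.coprime_dvd_left (AddSubgroup.card_addSubgroup_dvd_card U)) (resEnd ρ P U hUinv) (by
        intro W hW
        by_cases hW0 : W = ⊥
        · exact Or.inl hW0
        right
        have h1 : W.map U.subtype ≤ U := by
          rintro _ ⟨w, -, rfl⟩; exact w.2
        have h2 := hUmin (y := W.map U.subtype) ⟨by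
          rintro g hg _ ⟨w, hw, rfl⟩
          exact ⟨_, hW ⟨g, hg⟩ w hw, rfl⟩, fun e => hW0 ((AddSubgroup.map_eq_bot_iff_of_injective W
            U.subtype_injective).1 e)⟩ h1
        rw [eq_top_iff]
        intro w _
        obtain ⟨w', hw', e⟩ := h2 w.2
        rwa [← U.subtype_injective e])
      hz hzp hz1 (fun d hd hd1 w hw => Subtype.ext (hfpf z hz hzp hz1 d (hz' d hd)
        (fun e => hd1 (Subtype.ext e)) w (congrArg Subtype.val hw)))
      (fun d hd hdp => by
        obtain ⟨i, hi⟩ := mem_zpowers_iff.1 (cyclic_unique (G := center P) (z := ⟨z, hz⟩) (w := ⟨d, hd⟩)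
          (Subtype.ext hzp) (fun e => hz1 (congrArg Subtype.val e)) (Subtype.ext hdp))
        exact mem_zpowers_iff.2 ⟨i, congrArg Subtype.val hi⟩)
      (class_two hp2 hP hsymp)
    refine ⟨u, fun g hg => ?_⟩
    have hy : g * x * g⁻¹ ∈ P := Subgroup.Normal.conj_mem inferInstance x hx g
    refine hu ⟨_, hy⟩ (Subtype.ext ?_) (fun hc => hxZ ?_) (Subtype.ext hg)
    · show (g * x * g⁻¹) ^ p = 1
      rw [conj_pow, hxp, mul_one, mul_inv_cancel]
    · obtain ⟨c, hc', hcg⟩ := hZn.conj_mem _ (Subgroup.mem_map_of_mem P.subtype hc) g⁻¹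
      have : c = (⟨x, hx⟩ : P) := Subtype.ext (hcg.trans (by simp [mul_assoc]))
      exact this ▸ hc'

theorem faithful_step {p : ℕ} [hp : Fact p.Prime] (hp2 : p ≠ 2)
    (ih : ∀ m < Nat.card V, Goal.{u, v} p m) (hV : (Nat.card V).Coprime p)
    (ρ : M →* AddMonoid.End V) (hinj : Function.Injective ρ)
    {P : Subgroup M} [P.Normal] (hP : IsPGroup p P) {x : M} (hx : x ∈ P) (hx1 : ρ x ≠ 1) :
    Avoid ρ x := by
  classical
  by_cases hirr : ∀ W : AddSubgroup V, (∀ g, ∀ w ∈ W, ρ g w ∈ W) → W = ⊥ ∨ W = ⊤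
  swap
  · push Not at hirr
    obtain ⟨W, hW, hW0, hW1⟩ := hirr
    have hWcard : Nat.card W < Nat.card V :=
      lt_of_le_of_ne (Nat.card_le_card_of_injective _ Subtype.val_injective)
        fun e => hW1 (AddSubgroup.eq_top_of_card_eq _ e)
    by_cases hxW : ∀ w ∈ W, ρ x w = w
    · let f : M →* AddMonoid.End (V ⧸ W) :=
        { toFun := fun g => QuotientAddGroup.map W W (ρ g) (fun w hw => hW g w hw)
          map_one' := QuotientAddGroup.addMonoidHom_ext _ (AddMonoidHom.ext fun v => by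
            show (QuotientAddGroup.mk (ρ 1 v) : V ⧸ W) = QuotientAddGroup.mk v
            rw [act_one])
          map_mul' := fun a b => QuotientAddGroup.addMonoidHom_ext _ (AddMonoidHom.ext fun v => by
            show (QuotientAddGroup.mk (ρ (a * b) v) : V ⧸ W) = QuotientAddGroup.mk (ρ a (ρ b v))
            rw [act_mul]) }
      have hlt : Nat.card (V ⧸ W) < Nat.card V := by
        rw [AddSubgroup.card_eq_card_quotient_mul_card_addSubgroup W]
        exact lt_mul_of_one_lt_right Nat.card_pos (AddSubgroup.one_lt_card_iff_ne_bot W |>.2 hW0)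
      have hfx : f x ≠ 1 := by
        intro e
        obtain ⟨v, hv⟩ := exists_moved hx1
        apply hv
        have hm : -v + ρ x v ∈ W :=
          QuotientAddGroup.eq.1 ((DFunLike.congr_fun e (QuotientAddGroup.mk v)).symm)
        set u := -v + ρ x v with hu
        have hxv : ρ x v = v + u := by rw [hu, add_neg_cancel_left]
        have hpow : ∀ i : ℕ, ρ (x ^ i) v = v + i • u := by
          intro i
          induction i with
          | zero => rw [pow_zero, act_one, zero_smul, add_zero]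
          | succ i ih => rw [pow_succ', act_mul, ih, map_add, map_nsmul, hxW u hm, hxv, succ_nsmul']; abel
        have h1 := hpow (orderOf x)
        rw [pow_orderOf_eq_one, act_one, left_eq_add] at h1
        obtain ⟨j, hj⟩ := hP ⟨x, hx⟩
        have h2 : orderOf x ∣ p ^ j := orderOf_dvd_of_pow_eq_one (congrArg Subtype.val hj)
        rw [hxv, eq_zero_of_nsmul ((hV.pow_right j).coprime_dvd_right h2) h1, add_zero]
      obtain ⟨w, hw⟩ := ih _ hlt M (V ⧸ W) rfl
        (hV.coprime_dvd_left ⟨_, AddSubgroup.card_eq_card_quotient_mul_card_addSubgroup W⟩)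
        f P inferInstance hP x hx hfx
      obtain ⟨v, rfl⟩ := QuotientAddGroup.mk_surjective w
      exact ⟨v, fun g hg => hw g (congrArg QuotientAddGroup.mk hg)⟩
    · push Not at hxW
      obtain ⟨w₀, hw₀, hne⟩ := hxW
      obtain ⟨w, hw⟩ := ih _ hWcard (⊤ : Subgroup M) W rfl
        (hV.coprime_dvd_left (AddSubgroup.card_addSubgroup_dvd_card W))
        (resEnd ρ ⊤ W fun g _ w hw => hW g w hw) (P.subgroupOf ⊤) inferInstance
        (hP.comap_of_injective _ (Subgroup.subtype_injective _)) ⟨x, mem_top x⟩ hx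
        (fun e => hne (congrArg Subtype.val (DFunLike.congr_fun e (⟨w₀, hw₀⟩ : W)) :))
      exact ⟨w, fun g hg => hw ⟨g, mem_top g⟩ (Subtype.ext hg)⟩
  haveI : Nontrivial V := by
    obtain ⟨v, hv⟩ := exists_moved hx1
    exact ⟨⟨_, _, hv⟩⟩
  by_cases hab : ∀ W : Subgroup M, W.Normal → W ≤ P → (∀ a ∈ W, ∀ b ∈ W, a * b = b * a) → IsCyclic W
  swap
  · push Not at hab
    obtain ⟨W, hWn, hWP, hWab, hWc⟩ := hab
    haveI := hWn
    exact abelian_step hp2 hV ih ρ hinj hirr hP hx hx1 hWP hWab hWc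
  have hxne : x ≠ 1 := fun e => hx1 (by rw [e, map_one])
  obtain ⟨j, hj⟩ := hP.exists_orderOf_eq_pow (g := (⟨x, hx⟩ : P))
  rw [Subgroup.orderOf_mk] at hj
  obtain ⟨i, rfl⟩ : ∃ i, j = i + 1 := Nat.exists_eq_succ_of_ne_zero fun e => hxne (by
    rw [e, pow_zero, orderOf_eq_one_iff] at hj; exact hj)
  refine avoid_of_pow (k := p ^ i) (primitive_step hp2 hV ρ hinj hirr hP hab (pow_mem hx _) ?_ ?_)
  · rw [← pow_mul, ← pow_succ, ← hj, pow_orderOf_eq_one]
  · intro e
    have h1 := orderOf_dvd_of_pow_eq_one e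
    rw [hj, Nat.pow_dvd_pow_iff_le_right hp.out.one_lt] at h1
    omega

/-- For `p` odd, an element of a normal `p`-subgroup acting non-trivially and coprimely on an abelian
group has a vector moved by all its conjugates. -/
theorem goal {p : ℕ} [hp : Fact p.Prime] (hp2 : p ≠ 2) : ∀ n, Goal.{u, v} p n := by
  intro n
  induction n using Nat.strong_induction_on with
  | _ n ih =>
  intro M _ _ V _ _ hn hV ρ P hPn hP x hx hx1
  subst hn
  haveI := hPn
  let φ : M →* (AddMonoid.End V)ˣ := ρ.toHomUnits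
  let σ : M ⧸ φ.ker →* AddMonoid.End V := (Units.coeHom _).comp (QuotientGroup.kerLift φ)
  have hσi : Function.Injective σ := by
    intro a b e
    exact QuotientGroup.kerLift_injective φ (Units.ext e)
  haveI : (P.map (QuotientGroup.mk' φ.ker)).Normal :=
    Subgroup.Normal.map inferInstance _ (QuotientGroup.mk'_surjective _)
  obtain ⟨v, hv⟩ := faithful_step hp2 ih hV σ hσi (hP.map (QuotientGroup.mk' φ.ker))
    (Subgroup.mem_map_of_mem (QuotientGroup.mk' φ.ker) hx) (x := QuotientGroup.mk' φ.ker x) hx1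
  exact ⟨v, fun g => hv (QuotientGroup.mk' φ.ker g)⟩

theorem exists_avoid {p : ℕ} [hp : Fact p.Prime] (hp2 : p ≠ 2) (hV : (Nat.card V).Coprime p)
    (ρ : M →* AddMonoid.End V) (P : Subgroup M) [hPn : P.Normal] (hP : IsPGroup p P) {x : M} (hx : x ∈ P)
    (hx1 : ρ x ≠ 1) : ∃ w : V, ∀ g : M, ρ (g * x * g⁻¹) w ≠ w :=
  goal hp2 _ M V rfl hV ρ P hPn hP x hx hx1

end Cfsg.Agent.Block.AvoidFix
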